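import Mathlib
import Cfsg.Agent.H530.OI.SS
import Cfsg.Agent.LieClassical.OrthForms
import Cfsg.Agent.SignalizersComponents.LayerBasic

/-!
# S3325, piece 10c: the chart (helper530)

`pChart : PChart`
-/

set_option autoImplicit false

namespace Cfsg.Agent.H530.OI

open Cfsg Subgroup Matrix QuadraticMap
open Cfsg.Agent.H183 Cfsg.Agent.H323.OI
open Cfsg.Agent.LieClassical.OrthCore
open Cfsg.Agent.ClassicalGeometry.Reflection (isometryGroup_ext mem_isometryGroup_iff)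

/-! ### The model -/

theorem exists_model {p : ℕ} (hp : p.Prime) (hp2 : p ≠ 2) {S : Type} [Group S]
    (h : IsPOmegaOddChar p S ∨ IsPOmegaPlusChar p S ∨ IsPOmegaMinusChar p S) :
    ∃ (F' : Type) (_ : Field F') (_ : Fintype F') (ι : Type) (_ : Fintype ι) (_ : DecidableEq ι)
      (Q : QuadraticForm F' (ι → F')), (2 : F') ≠ 0 ∧ Nondeg Q ∧ 7 ≤ Fintype.card ι ∧
        Nonempty (S ≃* POmega F' ⇑Q) := by
  have two : ∀ (K : Type) [Field K] [CharP K p], (2 : K) ≠ 0 := by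
    intro K _ _ h2
    have h3 : ((2 : ℕ) : K) = 0 := by exact_mod_cast h2
    exact hp2 ((Nat.prime_dvd_prime_iff_eq hp Nat.prime_two).1 ((CharP.cast_eq_zero_iff K p 2).1 h3))
  rcases h with ⟨K, _, _, _, m, hm, -, he⟩ | ⟨K, _, _, _, m, hm, he⟩ | ⟨K, _, _, _, m, a, b, hm, hab, he⟩
  · refine ⟨K, _, inferInstance, _, inferInstance, inferInstance, LieClassical.OrthForms.oddForm m K, two K,
      LieClassical.OrthForms.nondeg_oddForm m K (two K), ?_, ?_⟩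
    · simp only [Fintype.card_sum, Fintype.card_unit, Fintype.card_fin]
      omega
    · rw [LieClassical.OrthForms.coe_oddForm]
      exact he
  · refine ⟨K, _, inferInstance, _, inferInstance, inferInstance, LieClassical.OrthForms.plusForm m K, two K,
      LieClassical.OrthForms.nondeg_plusForm m K, ?_, ?_⟩
    · simp only [Fintype.card_sum, Fintype.card_fin]
      omega
    · rw [LieClassical.OrthForms.coe_plusForm]
      exact he
  · refine ⟨K, _, inferInstance, _, inferInstance, inferInstance,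
      LieClassical.OrthForms.minusForm (m - 1) K a b, two K,
      LieClassical.OrthForms.nondeg_minusForm (m - 1) K a b hab, ?_, ?_⟩
    · simp only [Fintype.card_sum, Fintype.card_fin]
      omega
    · rw [LieClassical.OrthForms.coe_minusForm]
      exact he

/-! ### Transport of fixed points -/

section transport

variable {S S' : Type} [Group S] [Group S']

theorem congr_apply (e : S ≃* S') (α : MulAut S) (x : S) : (MulAut.congr e α) (e x) = e (α x) := by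
  show e (α (e.symm (e x))) = _
  rw [e.symm_apply_apply]

theorem congr_conj (e : S ≃* S') (s : S) : MulAut.congr e (MulAut.conj s) = MulAut.conj (e s) := by
  ext x
  obtain ⟨y, rfl⟩ := e.surjective x
  rw [congr_apply, MulAut.conj_apply, MulAut.conj_apply]
  simp

theorem congr_ne_one (e : S ≃* S') {α : MulAut S} (h : α ≠ 1) : MulAut.congr e α ≠ 1 := by
  intro h1
  exact h ((MulAut.congr e).injective (h1.trans (map_one _).symm))

theorem mem_fx_congr (e : S ≃* S') (α : MulAut S) (x : S) : e x ∈ fx (MulAut.congr e α) ↔ x ∈ fx α := by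
  rw [mem_fx, mem_fx, congr_apply]
  exact e.injective.eq_iff

/-- `fx α ≃* fx α'` -/
def fxCongr (e : S ≃* S') (α : MulAut S) : ↥(fx α) ≃* ↥(fx (MulAut.congr e α)) where
  toFun x := ⟨e x.1, (mem_fx_congr e α x.1).2 x.2⟩
  invFun x := ⟨e.symm x.1, (mem_fx_congr e α _).1 (by rw [e.apply_symm_apply]; exact x.2)⟩
  left_inv x := Subtype.ext (e.symm_apply_apply _)
  right_inv x := Subtype.ext (e.apply_symm_apply _)
  map_mul' x y := Subtype.ext (map_mul e _ _)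

theorem comp_congr {M : Type} [Group M] (e : S ≃* S') (α : MulAut S) (φ : M →* S)
    (h : IsComponent (φ.range.subgroupOf (fx α))) :
    IsComponent ((e.toMonoidHom.comp φ).range.subgroupOf (fx (MulAut.congr e α))) := by
  have h1 := SignalizersComponents.LayerBasic.isComponent_map_equiv (fxCongr e α) h
  convert h1 using 1
  ext x
  rw [mem_subgroupOf]
  constructor
  · rintro ⟨m, hm⟩
    have hm' : e (φ m) = x.1 := hm
    have hx : φ m ∈ fx α := (mem_fx_congr e α _).1 (by rw [hm']; exact x.2)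
    exact ⟨⟨φ m, hx⟩, mem_subgroupOf.2 ⟨m, rfl⟩, Subtype.ext hm'⟩
  · rintro ⟨y, hy, hyx⟩
    obtain ⟨m, hm⟩ := mem_subgroupOf.1 hy
    refine ⟨m, ?_⟩
    have h2 : e y.1 = x.1 := congrArg Subtype.val hyx
    rw [← h2, ← hm]
    rfl

end transport

/-! ### The embedding `Ω(Q₁) → PΩ(Q)` -/

section emb

variable {F : Type} [Field F] [Finite F] {ι κ ν : Type} [Fintype ι] [DecidableEq ι] [Fintype κ] [DecidableEq κ]
  [Fintype ν] [DecidableEq ν]

/-- `x ↦ x ⊥ 1` -/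
def inl (Q₁ : (κ → F) → F) (Q₂ : (ν → F) → F) : ↥(Omega F Q₁) →* ↥(Omega F (sumFun Q₁ Q₂)) :=
  ((((blk Q₁ Q₂).comp (MonoidHom.inl _ _)).comp (Omega F Q₁).subtype)).codRestrict _
    fun m => blk_mem_Omega Q₁ Q₂ m.1 1 m.2 (one_mem _)

omit [Finite F] in
theorem coe_inl (Q₁ : (κ → F) → F) (Q₂ : (ν → F) → F) (x : ↥(Omega F Q₁)) :
    (inl Q₁ Q₂ x).1 = blk Q₁ Q₂ (x.1, 1) := rfl

omit [Finite F] in
theorem mx_blk_mulVec (Q₁ : (κ → F) → F) (Q₂ : (ν → F) → F) (x : ↥(isometryGroup F Q₁)) (y : ↥(isometryGroup F Q₂))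
    (v : κ ⊕ ν → F) :
    mx (blk Q₁ Q₂ (x, y)) *ᵥ v = Sum.elim (mx x *ᵥ (v ∘ Sum.inl)) (mx y *ᵥ (v ∘ Sum.inr)) := by
  exact elim_eq_of_comp (fromBlocks_mulVec_inl _ _ _) (fromBlocks_mulVec_inr _ _ _)

omit [Finite F] [Fintype ι] [DecidableEq ι] [Fintype κ] [DecidableEq κ] in
theorem isSS_lin {Q : (ι → F) → F} {Q₁ : (κ → F) → F} (L : (κ → F) ≃ₗ[F] (ι → F)) (h : ∀ v, Q (L v) = Q₁ v) :
    IsSS Q₁ Q (RingEquiv.refl F) 1 L.toAddEquiv :=
  ⟨one_ne_zero, fun a v => map_smul L a v, fun v => by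
    rw [one_mul]
    exact h v⟩

theorem emb_inj (h2 : (2 : F) ≠ 0) {Q : QuadraticForm F (ι → F)} (hQ : Nondeg Q) (h5 : 5 ≤ Fintype.card ι)
    {Q₁ : QuadraticForm F (κ → F)} {Q₂ : QuadraticForm F (ν → F)} (hν : Nonempty ν)
    {L : (κ ⊕ ν → F) ≃+ (ι → F)} {x : ↥(Omega F ⇑Q₁)} {y : ↥(Omega F ⇑Q)}
    (h : Rel L (blk ⇑Q₁ ⇑Q₂ (x.1, 1)) y.1) (hy : y ∈ center ↥(Omega F ⇑Q)) : x = 1 := by
  have hB : LinearMap.BilinForm.Nondegenerate (polarBilin Q) :=
    ⟨fun x hx => hQ x hx, fun x hx => hQ x fun y => by rw [polar_comm]; exact hx y⟩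
  obtain ⟨u, hu0, hu, -⟩ := LieClassical.OrthFinite.exists_sing_perp (Q := Q) (n := 0) ![]
    (by rw [Module.finrank_fintype_fun_eq_card]; omega)
  have h3 := (LieClassical.OmegaCenter.mem_center_omega_iff Q hB (by omega) ⟨u, hu0, hu⟩ y).1 hy
  rcases h3 with h3 | h3
  · have h3' : mx y.1 = 1 := h3
    apply Subtype.ext
    apply isometryGroup_ext
    intro v
    have h4 := h (Sum.elim v 0)
    rw [h3', one_mulVec] at h4
    have h5 := L.injective h4
    rw [mx_blk_mulVec] at h5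
    have h6 := congrArg (fun w => w ∘ Sum.inl) h5
    simp only [Sum.elim_comp_inl] at h6
    show mx x.1 *ᵥ v = mx (1 : ↥(isometryGroup F ⇑Q₁)) *ᵥ v
    rw [mx_one, one_mulVec]
    exact h6.symm
  · exfalso
    have h3' : mx y.1 = -1 := h3
    obtain ⟨i⟩ := hν
    have h4 := h (Sum.elim 0 (fun _ => 1))
    rw [h3', neg_mulVec, one_mulVec, ← map_neg] at h4
    have h5 := L.injective h4
    rw [mx_blk_mulVec] at h5
    have h6 := congrFun h5 (Sum.inr i)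
    rw [mx_one, one_mulVec] at h6
    simp only [Pi.neg_apply, Sum.elim_inr, Function.comp_apply] at h6
    apply h2
    linear_combination -h6

end emb

/-! ### Sums of semisimilarities -/

section sumT

variable {F F' : Type} [Field F] [Field F'] {ι κ ν κ' ν' : Type}

/-- `T₀ ⊥ T₁` -/
def sumT (T₀ : (κ → F) ≃+ (κ' → F')) (T₁ : (ν → F) ≃+ (ν' → F')) : (κ ⊕ ν → F) ≃+ (κ' ⊕ ν' → F') where
  toFun v := Sum.elim (T₀ (v ∘ Sum.inl)) (T₁ (v ∘ Sum.inr))
  invFun v := Sum.elim (T₀.symm (v ∘ Sum.inl)) (T₁.symm (v ∘ Sum.inr))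
  left_inv v := by simp
  right_inv v := by simp
  map_add' v w := by
    have h1 : (v + w) ∘ Sum.inl = v ∘ Sum.inl + w ∘ Sum.inl := rfl
    have h2 : (v + w) ∘ Sum.inr = v ∘ Sum.inr + w ∘ Sum.inr := rfl
    rw [h1, h2, map_add, map_add]
    ext (i | i) <;> rfl

theorem sumT_apply (T₀ : (κ → F) ≃+ (κ' → F')) (T₁ : (ν → F) ≃+ (ν' → F')) (v : κ ⊕ ν → F) :
    sumT T₀ T₁ v = Sum.elim (T₀ (v ∘ Sum.inl)) (T₁ (v ∘ Sum.inr)) := rfl

theorem isSS_sumT {Q₁ : (κ → F) → F} {Q₂ : (ν → F) → F} {Q₁' : (κ' → F') → F'} {Q₂' : (ν' → F') → F'}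
    {σ : F ≃+* F'} {μ : F'} {T₀ : (κ → F) ≃+ (κ' → F')} {T₁ : (ν → F) ≃+ (ν' → F')}
    (h₀ : IsSS Q₁ Q₁' σ μ T₀) (h₁ : IsSS Q₂ Q₂' σ μ T₁) :
    IsSS (sumFun Q₁ Q₂) (sumFun Q₁' Q₂') σ μ (sumT T₀ T₁) := by
  refine ⟨h₀.1, fun a v => ?_, fun v => ?_⟩
  · rw [sumT_apply, sumT_apply]
    have e1 : (a • v) ∘ Sum.inl = a • (v ∘ Sum.inl) := rfl
    have e2 : (a • v) ∘ Sum.inr = a • (v ∘ Sum.inr) := rfl
    rw [e1, e2, h₀.2.1, h₁.2.1]
    ext (i | i) <;> rfl
  · show Q₁' (sumT T₀ T₁ v ∘ Sum.inl) + Q₂' (sumT T₀ T₁ v ∘ Sum.inr) = _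
    rw [sumT_apply, Sum.elim_comp_inl, Sum.elim_comp_inr, h₀.2.2, h₁.2.2, ← mul_add, ← map_add]

theorem isSS_trans_lin {Q : (κ → F) → F} {Q' : (κ' → F') → F'} {Q'' : (ι → F') → F'} {σ : F ≃+* F'} {μ : F'}
    {T : (κ → F) ≃+ (κ' → F')} (h : IsSS Q Q' σ μ T) (L : (κ' → F') ≃ₗ[F'] (ι → F')) (hL : ∀ v, Q'' (L v) = Q' v) :
    IsSS Q Q'' σ μ (T.trans L.toAddEquiv) :=
  ⟨h.1, fun a v => by
    show L (T (a • v)) = σ a • L (T v)
    rw [h.2.1, map_smul], fun v => by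
    show Q'' (L (T v)) = _
    rw [hL, h.2.2]⟩

/-- the semisimilarity of a diagonal form -/
theorem isSS_diag {l : ℕ} {Q : (Fin l → F') → F'} {d' : Fin l → F'} (A : (Fin l → F') ≃ₗ[F'] (Fin l → F'))
    (hA : ∀ v, Q (A v) = dq d' v) (σ : F ≃+* F') {μ : F'} (hμ : μ ≠ 0) :
    ∃ T₁ : (Fin l → F) ≃+ (Fin l → F'), IsSS (dq fun i => σ.symm (μ⁻¹ * d' i)) Q σ μ T₁ := by
  refine ⟨(AddEquiv.piCongrRight fun _ => σ.toAddEquiv).trans A.toAddEquiv, hμ, fun a v => ?_, fun v => ?_⟩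
  · show A (fun i => σ ((a • v) i)) = σ a • A (fun i => σ (v i))
    rw [← map_smul]
    congr 1
    funext i
    simp
  · show Q (A (fun i => σ (v i))) = _
    rw [hA]
    simp only [dq, map_sum, map_mul, map_pow, σ.apply_symm_apply]
    rw [Finset.mul_sum]
    refine Finset.sum_congr rfl fun i _ => ?_
    rw [mul_assoc μ⁻¹, mul_inv_cancel_left₀ hμ]

end sumT

/-! ### The chart -/

theorem core (hIso : PIso) (hSplit : PSplit) {F : Type} [Field F] [Fintype F] {n : ℕ} (c : Fin n → F) (hc : Sp c)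
    {F' : Type} [Field F'] [Fintype F'] (h2 : (2 : F') ≠ 0) {ι : Type} [Fintype ι] [DecidableEq ι]
    (Q : QuadraticForm F' (ι → F')) (hQ : Nondeg Q) (h7 : 7 ≤ Fintype.card ι)
    (T : ↥(isometryGroup F' ⇑Q)) (hT : T * T = 1 ∨ mx (T * T) = -1) (α : MulAut (POmega F' ⇑Q)) (ha : α ≠ 1)
    (hα : ∀ x : ↥(Omega F' ⇑Q), α (QuotientGroup.mk x) = QuotientGroup.mk (cj T x))
    (φ : Om c →* POmega F' ⇑Q) (hker : φ.ker ≤ center (Om c)) (hfix : ∀ m, α (φ m) = φ m)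
    (hcomp : IsComponent (φ.range.subgroupOf (fx α))) :
    ∃ (b : ℕ) (d : Fin b → F) (ρ : OmV c d →* POmega F' ⇑Q), Chart c d α φ ρ := by
  obtain ⟨k, l, Q₁, Q₂, L, e, he, hQ₁, hQ₂, hk, hl, hL, hT1, hT2, hA, hB⟩ :=
    hSplit c hc h2 Q hQ h7 T hT α ha hα φ hker hfix hcomp
  -- the embedding
  have hLS : IsSS (sumFun ⇑Q₁ ⇑Q₂) ⇑Q (RingEquiv.refl F') 1 L.toAddEquiv := isSS_lin L hL
  let B : ↥(Omega F' ⇑Q₁) →* POmega F' ⇑Q :=
    (QuotientGroup.mk' _).comp ((omIso hLS).toMonoidHom.comp (inl ⇑Q₁ ⇑Q₂))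
  have hBrel : ∀ x : ↥(Omega F' ⇑Q₁),
      Rel L.toAddEquiv (blk ⇑Q₁ ⇑Q₂ (x.1, 1)) (omIso hLS (inl ⇑Q₁ ⇑Q₂ x)).1 := fun x => rel_omIso hLS _
  have hBinj : Function.Injective B := by
    rw [injective_iff_map_eq_one]
    intro x hx
    exact emb_inj h2 hQ (by omega) ⟨⟨0, by omega⟩⟩ (hBrel x) ((QuotientGroup.eq_one_iff _).1 hx)
  have hBmk : ∀ (x : ↥(Omega F' ⇑Q₁)) (y : ↥(Omega F' ⇑Q)),
      Rel L.toAddEquiv (blk ⇑Q₁ ⇑Q₂ (x.1, 1)) y.1 → B x = QuotientGroup.mk y := by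
    intro x y hxy
    have h3 : omIso hLS (inl ⇑Q₁ ⇑Q₂ x) = y := Subtype.ext (rel_unique (hBrel x) hxy)
    rw [← h3]
    rfl
  have hφB : ∀ m, φ m ∈ B.range := by
    intro m
    obtain ⟨x, y, h1, h3⟩ := hA m
    exact ⟨x, by rw [h1, hBmk x y h3]⟩
  let θ : Om c →* ↥(Omega F' ⇑Q₁) :=
    (MonoidHom.ofInjective hBinj).symm.toMonoidHom.comp (φ.codRestrict B.range hφB)
  have hθ : ∀ m, B (θ m) = φ m := by
    intro m
    have h3 := (MonoidHom.ofInjective hBinj).apply_symm_apply (φ.codRestrict B.range hφB m)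
    exact congrArg Subtype.val h3
  have hθs : Function.Surjective θ := by
    intro x
    obtain ⟨m, y, h1, h3⟩ := hB x
    refine ⟨m, hBinj ?_⟩
    rw [hθ, h1, hBmk x y h3]
  have hθk : θ.ker ≤ center (Om c) := by
    intro m hm
    apply hker
    rw [MonoidHom.mem_ker] at hm ⊢
    rw [← hθ, hm, map_one]
  obtain ⟨σ, μ, T₀, hT₀, hT₀r⟩ := hIso c hc h2 Q₁ hQ₁ (by simpa using hk) θ hθs hθk
  -- the second space
  obtain ⟨d', A, hd', hd3, hAd⟩ := exists_diag h2 hl Q₂ hQ₂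
  obtain ⟨T₁, hT₁⟩ := isSS_diag A hAd σ hT₀.1
  set d : Fin l → F := fun i => σ.symm (μ⁻¹ * d' i) with hd
  have hTV := isSS_trans_lin (isSS_sumT hT₀ hT₁) L hL
  refine ⟨l, d, (QuotientGroup.mk' _).comp (omIso hTV).toMonoidHom, hl, fun i => ?_, fun i j hi hj h3 => ?_, ?_,
    ?_, fun m => ?_, fun x => ?_⟩
  · exact (map_ne_zero σ.symm).2 (mul_ne_zero (inv_ne_zero hT₀.1) (hd' i))
  · rw [hd]
    show σ.symm (μ⁻¹ * d' i) = σ.symm (μ⁻¹ * d' j)
    rw [hd3 i j hi hj h3]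
  · exact (QuotientGroup.mk'_surjective _).comp (omIso hTV).surjective
  · intro x hx
    have h3 : omIso hTV x ∈ center ↥(Omega F' ⇑Q) := (QuotientGroup.eq_one_iff _).1 hx
    rw [mem_center_iff]
    intro y
    apply (omIso hTV).injective
    rw [map_mul, map_mul]
    exact mem_center_iff.1 h3 _
  · rw [← hθ]
    have h3 : omIso hTV (inU c d m) = omIso hLS (inl ⇑Q₁ ⇑Q₂ (θ m)) := by
      refine Subtype.ext (rel_unique (rel_omIso hTV _) ?_)
      intro v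
      have h4 := hBrel (θ m) (Sum.elim (T₀ (v ∘ Sum.inl)) (T₁ (v ∘ Sum.inr)))
      refine h4.trans ?_
      show L _ = L _
      rw [mx_blk_mulVec, Sum.elim_comp_inl, Sum.elim_comp_inr, hT₀r m, mx_one, one_mulVec]
      show L _ = L (sumT T₀ T₁ (mx (blk (dq c) (dq d) (m.1, 1)) *ᵥ v))
      rw [mx_blk_mulVec, sumT_apply, Sum.elim_comp_inl, Sum.elim_comp_inr, mx_one, one_mulVec]
    show QuotientGroup.mk' _ (omIso hTV (inU c d m)) = _
    rw [h3]
    rfl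
  · show α (QuotientGroup.mk (omIso hTV x)) = QuotientGroup.mk (omIso hTV (cj (tau c d) x))
    rw [hα]
    congr 1
    apply Subtype.ext
    show T * (omIso hTV x).1 * T⁻¹ = ssIso hTV (tau c d * x.1 * (tau c d)⁻¹)
    rw [map_mul, map_mul, map_inv]
    show T * (omIso hTV x).1 * T⁻¹ = ssIso hTV (tau c d) * (omIso hTV x).1 * (ssIso hTV (tau c d))⁻¹
    set T' := ssIso hTV (tau c d) with hT'
    have h3 : ∀ v, mx T *ᵥ v = e • (mx T' *ᵥ v) := by
      intro v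
      obtain ⟨w, rfl⟩ := ((sumT T₀ T₁).trans L.toAddEquiv).surjective v
      rw [rel_ssIso hTV (tau c d) w]
      show mx T *ᵥ L (Sum.elim (T₀ (w ∘ Sum.inl)) (T₁ (w ∘ Sum.inr))) =
        e • L (sumT T₀ T₁ (mx (blk (dq c) (dq d) (1, negI d)) *ᵥ w))
      rw [mx_blk_mulVec, sumT_apply, Sum.elim_comp_inl, Sum.elim_comp_inr, mx_one, one_mulVec,
        show mx (negI d) = -1 from rfl, neg_mulVec, one_mulVec, map_neg]
      have h5 : ∀ (a : Fin k → F') (b : Fin l → F'),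
          (Sum.elim a b : Fin k ⊕ Fin l → F') = Sum.elim a (0 : Fin l → F') + Sum.elim (0 : Fin k → F') b := by
        intro a b
        ext (i | i) <;> simp
      have h6 : ∀ b : Fin l → F',
          (Sum.elim (0 : Fin k → F') (-b) : Fin k ⊕ Fin l → F') = - Sum.elim (0 : Fin k → F') b := by
        intro b
        ext (i | i) <;> simp
      rw [h5, h5 _ (-_), h6, map_add, map_add, mulVec_add, hT1, hT2, map_neg, smul_add, smul_neg, neg_smul]
    have h4 : mx (T'⁻¹ * T) = e • (1 : Matrix ι ι F') := by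
      apply Matrix.mulVec_injective
      funext v
      rw [mx_mul, ← mulVec_mulVec, h3, mulVec_smul, mulVec_mulVec, mx_inv_mul, one_mulVec, smul_mulVec, one_mulVec]
    have h5 : (T'⁻¹ * T) * (omIso hTV x).1 = (omIso hTV x).1 * (T'⁻¹ * T) := by
      apply Subtype.ext
      apply Units.ext
      show mx (T'⁻¹ * T) * mx (omIso hTV x).1 = mx (omIso hTV x).1 * mx (T'⁻¹ * T)
      rw [h4, smul_mul_assoc, mul_smul_comm, one_mul, mul_one]
    calc T * (omIso hTV x).1 * T⁻¹ = T' * ((T'⁻¹ * T) * (omIso hTV x).1) * T⁻¹ := by group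
      _ = T' * (omIso hTV x).1 * T'⁻¹ := by rw [h5]; group

/-- **Piece 10c.** -/
theorem pChart : PChart := by
  intro hIso hLin hSplit F _ _ n c hc S _ _ _ r p hp hp2 h
  obtain ⟨F', _, _, ι, _, _, Q, h2, hQ, h7, ⟨e₀⟩⟩ := exists_model hp hp2 h
  obtain ⟨g, T, hT, hgT⟩ := hLin h2 Q hQ h7 (MulAut.congr e₀ r.α) (MulAut.congr e₀ r.β) (MulAut.congr e₀ r.β')
    (e₀ (r.φ r.m₀)) r.j (by rw [← map_mul, r.aa, map_one]) (by rw [← map_mul, r.bb, map_one])
    (by rw [← map_mul, r.bb', map_one]) (by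
      rw [← congr_conj, ← map_mul, ← map_inv, ← map_mul, ← map_inv, ← map_mul, ← map_pow, ← map_mul, ← r.eq])
  let e : S ≃* POmega F' ⇑Q := e₀.trans g
  have he : MulAut.congr e r.α = g * MulAut.congr e₀ r.α * g⁻¹ := by
    ext x
    rfl
  obtain ⟨b, d, ρ, hρ⟩ := core hIso hSplit c hc h2 Q hQ h7 T hT (MulAut.congr e r.α) (congr_ne_one e r.a1)
    (by rw [he]; exact hgT) (e.toMonoidHom.comp r.φ) (by
      intro m hm
      apply r.ker
      rw [MonoidHom.mem_ker] at hm ⊢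
      exact e.injective (hm.trans (map_one e).symm)) (fun m => by
      show MulAut.congr e r.α (e (r.φ m)) = e (r.φ m)
      rw [congr_apply, r.fix]) (comp_congr e r.α r.φ r.comp)
  refine ⟨b, d, e.symm.toMonoidHom.comp ρ, hρ.b1, hρ.dne, hρ.d3, e.symm.surjective.comp hρ.surj, ?_, fun m => ?_,
    fun x => ?_⟩
  · intro x hx
    apply hρ.ker
    rw [MonoidHom.mem_ker] at hx ⊢
    exact e.symm.injective (hx.trans (map_one e.symm).symm)
  · show e.symm (ρ (inU c d m)) = _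
    rw [hρ.res]
    exact e.symm_apply_apply _
  · show r.α (e.symm (ρ x)) = e.symm (ρ (cj (tau c d) x))
    apply e.injective
    rw [← hρ.tw, ← congr_apply, e.apply_symm_apply, e.apply_symm_apply]

end Cfsg.Agent.H530.OI
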